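import Cfsg.Agent.CIT.Few2
import Cfsg.Agent.JR.J1
import Cfsg.Agent.Ab2.Fin1

/-!
# A 2-central involution with centraliser `2 × Aₘ`
-/

set_option autoImplicit false
set_option linter.unusedSectionVars false

namespace CF.CIT
open Subgroup Cfsg CF.BG CF.Invol CF.Bender CF.Classical Equiv Equiv.Perm
open scoped MatrixGroups commutatorElement

section
variable {α : Type*} [Fintype α] [DecidableEq α] {τ σ : Perm α} {K : Subgroup (Perm α)}

theorem swap_pair_mem (h6 : 6 ≤ Fintype.card α) (h2 : ∀ x, τ (τ x) = x)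
    (hK : ∀ u v : Perm α, sign u = 1 → sign v = 1 → τ * u * τ⁻¹ = u → τ * v * τ⁻¹ = v → ⁅u, v⁆ ∈ K)
    {a c : α} (ha : τ a ≠ a) (hc : τ c ≠ c) (ca : c ≠ a) (cb : c ≠ τ a) :
    swap a (τ a) * swap c (τ c) ∈ K := by
  have s : ∀ x y, τ * swap x y * τ⁻¹ = swap (τ x) (τ y) := fun x y => (swap_apply_apply τ x y).symm
  have da : τ c ≠ a := fun e => cb (by rw [← e, h2])
  have db : τ c ≠ τ a := τ.injective.ne ca
  obtain ⟨e, f, ef, he, hf, k⟩ : ∃ e f, e ≠ f ∧ e ∉ ({a, τ a, c, τ c} : Finset α) ∧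
      f ∉ ({a, τ a, c, τ c} : Finset α) ∧ swap (τ e) (τ f) = swap e f := by
    by_cases h : ∃ e, e ∉ ({a, τ a, c, τ c} : Finset α) ∧ τ e ≠ e
    · obtain ⟨e, he, k⟩ := h
      refine ⟨e, τ e, k.symm, he, fun l => he ?_, by rw [h2, swap_comm]⟩
      simp only [Finset.mem_insert, Finset.mem_singleton] at l ⊢
      rcases l with l | l | l | l <;> have := congrArg τ l <;> simp only [h2] at this <;> simp [this]
    · push Not at h
      obtain ⟨e, he, f, hf, ef⟩ := Finset.one_lt_card.1 (show 1 < ({a, τ a, c, τ c} : Finset α)ᶜ.card by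
        rw [Finset.card_compl]
        have := Finset.card_le_four (a := a) (b := τ a) (c := c) (d := τ c)
        omega)
      rw [Finset.mem_compl] at he hf
      exact ⟨e, f, ef, he, hf, by rw [h e he, h f hf]⟩
  simp only [Finset.mem_insert, Finset.mem_singleton, not_or] at he hf
  have := hK (swap a (τ a) * swap e f) (swap a c * swap (τ a) (τ c)) (by simp [ha.symm, ef])
    (by simp [ca.symm, db.symm]) (by rw [← conj_mul, s, s, h2, k, swap_comm])
    (by
      rw [← conj_mul, s, s, h2, h2, swap_mul_eq_mul_swap, swap_inv, swap_apply_of_ne_of_ne ha cb.symm,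
        swap_apply_of_ne_of_ne da hc])
  convert this using 1
  rw [commutatorElement_def, mul_assoc, mul_assoc, ← mul_assoc (swap a c * _), _root_.mul_inv_rev (swap a (τ a)),
    swap_inv, swap_inv, ← conj_mul, ← swap_apply_apply, ← swap_apply_apply]
  simp [swap_apply_of_ne_of_ne, he, hf, ha, hc, ca, cb, da, db, ha.symm, hc.symm, ca.symm, cb.symm, da.symm, db.symm,
    mul_assoc]

theorem mem_of_sub (h6 : 6 ≤ Fintype.card α) (h2 : ∀ x, τ (τ x) = x)
    (hK : ∀ u v : Perm α, sign u = 1 → sign v = 1 → τ * u * τ⁻¹ = u → τ * v * τ⁻¹ = v → ⁅u, v⁆ ∈ K)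
    (n : ℕ) : ∀ σ : Perm α, σ.support.card = n → sign σ = 1 → (∀ x, σ (σ x) = x) →
      (∀ x, σ x = x ∨ σ x = τ x) → σ ∈ K := by
  induction n using Nat.strong_induction_on with | _ n ih => ?_
  have step : ∀ (σ : Perm α) (a : α), σ a ≠ a → (∀ x, σ (σ x) = x) → (∀ x, σ x = x ∨ σ x = τ x) →
      σ a = τ a ∧ (swap a (σ a) * σ).support.card < σ.support.card ∧
      (∀ x, (swap a (σ a) * σ) ((swap a (σ a) * σ) x) = x) ∧
      (∀ x, (swap a (σ a) * σ) x = x ∨ (swap a (σ a) * σ) x = τ x) ∧ (swap a (σ a) * σ) a = a ∧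
      (swap a (σ a) * σ) (σ a) = σ a := fun σ a ha q r => by
    have k : ∀ x, (swap a (σ a) * σ) x = if x = a ∨ x = σ a then x else σ x := fun x => by
      split_ifs with h
      · rcases h with rfl | rfl <;> simp [q]
      · push Not at h
        exact swap_apply_of_ne_of_ne (fun e => h.2 (by rw [← e, q])) (σ.injective.ne h.1)
    refine ⟨(r a).resolve_left ha, card_support_swap_mul ha, fun x => ?_, fun x => ?_, by simp, by simp [q]⟩
    · by_cases h : x = a ∨ x = σ a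
      · rw [k x, if_pos h, k x, if_pos h]
      · rw [k x, if_neg h, k, if_neg, q]
        rintro (e | e)
        · exact h (Or.inr (by rw [← e, q]))
        · exact h (Or.inl (σ.injective e))
    · rw [k]; split_ifs; exacts [Or.inl rfl, r x]
  intro σ hn s q r
  by_cases h : σ = 1
  · exact h ▸ K.one_mem
  obtain ⟨a, ha⟩ : ∃ a, σ a ≠ a := by simpa [Perm.ext_iff] using h
  obtain ⟨e1, l1, q1, r1, a1, b1⟩ := step σ a ha q r
  obtain ⟨c, hc⟩ : ∃ c, (swap a (σ a) * σ) c ≠ c := by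
    by_contra! k
    have := congrArg sign (Perm.ext k : swap a (σ a) * σ = 1)
    simp [s, ha.symm] at this
  obtain ⟨e2, l2, q2, r2, -⟩ := step _ c hc q1 r1
  have m := ih _ (hn ▸ l2.trans l1) _ rfl (by rw [Perm.sign_mul, Perm.sign_mul, sign_swap hc.symm, sign_swap ha.symm, s]; simp)
    q2 r2
  have := K.mul_mem (swap_pair_mem (a := a) (c := c) h6 h2 hK (e1 ▸ ha) (e2 ▸ hc)
    (fun e => hc (by rw [e, a1])) (fun e => hc (by rw [e, ← e1, b1]))) m
  rwa [e2, e1, mul_assoc, swap_mul_self_mul, swap_mul_self_mul] at this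

theorem alt_mem_comm (h6 : 6 ≤ Fintype.card α) {t : alternatingGroup α} (h : t * t = 1) :
    t ∈ ⁅𝐂₁ t, 𝐂₁ t⁆ := by
  have h2 : ∀ x, t.1 (t.1 x) = x := fun x => congrArg (fun g : alternatingGroup α => g.1 x) h
  obtain ⟨u, hu, e⟩ := mem_of_sub (K := ⁅𝐂₁ t, 𝐂₁ t⁆.map (alternatingGroup α).subtype) h6 h2
    (fun u v su sv cu cv => ⟨⁅⟨u, su⟩, ⟨v, sv⟩⁆, commutator_mem_commutator
      (mem_cent1.2 (Subtype.ext (mul_inv_eq_iff_eq_mul.1 cu).symm))
      (mem_cent1.2 (Subtype.ext (mul_inv_eq_iff_eq_mul.1 cv).symm)), rfl⟩) _ _ rfl t.2 h2 fun _ => Or.inr rfl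
  exact Subtype.ext e ▸ hu

end

variable {G : Type*} [Group G] [Finite G] {J s x : G} {T : Subgroup G}

theorem equiv_aut_eight {F : Type*} [Field F] [Fintype F] {L : Subgroup G} [L.Normal] (f : L ≃* PSL(2, F))
    (c : 𝐂 L = ⊥) (q : QAb (Fintype.card F)) (n4 : ∀ g : G, orderOf g ≠ 4) {k : ℕ} (o : ¬ 2 ∣ k)
    (e : k * 24 = Nat.card G) (hx : orderOf x = 6) :
    Fintype.card F = 8 ∧ Nonempty (G ≃* MulAut PSL(2, F)) := by
  haveI : Fact (Nat.Prime 2) := ⟨Nat.prime_two⟩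
  have h4 : 4 ≤ Nat.card F := by rw [Nat.card_eq_fintype_card]; exact q.four_le
  haveI := isSimpleGroup_PSL2 h4
  haveI := f.isSimpleGroup
  obtain ⟨j, hj⟩ := odd_index (L := L) (fun s => not_isSolvable_PSL2 h4
    (Group.isSolvable_of_surjective (f := f.toMonoidHom) f.surjective)) c
    (syl_sylow_top (default : Sylow 2 G)) (Abel.of_comm (comm_of_no_four n4 _))
  have hc := L.index_mul_card
  rw [Nat.card_congr f.toEquiv, ← e] at hc
  have q8 : Fintype.card F = 2 ^ 3 := by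
    have d : 8 ∣ Nat.card PSL(2, F) := Nat.Coprime.dvd_of_dvd_mul_left
      (Nat.Coprime.pow_left 3 (Nat.coprime_two_left.2 ⟨j, hj⟩)) ⟨k * 3, by rw [hc]; ring⟩
    have d' : ¬ 16 ∣ Nat.card PSL(2, F) := fun d => by have := d.mul_left L.index; omega
    rcases q with ⟨q, -⟩ | ⟨n, h2, q⟩
    · have := card_psl_odd (F := F) (Nat.odd_iff.2 (by omega))
      generalize Fintype.card F = r at *
      have : (r * (r ^ 2 - 1) + r) % 16 = r % 16 := by omega
      rw [← Nat.mul_succ, Nat.succ_eq_add_one, Nat.sub_add_cancel (Nat.one_le_pow _ _ (by omega)), Nat.mul_mod,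
        Nat.pow_mod] at this
      obtain l | l | l | l : r % 16 = 3 ∨ r % 16 = 5 ∨ r % 16 = 11 ∨ r % 16 = 13 := by omega
      all_goals rw [l] at this; omega
    · rw [card_psl_even (by omega) q] at d d'
      obtain rfl | rfl | l : n = 2 ∨ n = 3 ∨ 4 ≤ n := by omega
      exacts [absurd d (by norm_num), q, (d' ((pow_dvd_pow 2 l).mul_right _)).elim]
  have i := index_dvd_out f c Nat.prime_two q8 (by norm_num)
  have i1 : L.index ≠ 1 := fun k => by
    obtain rfl := index_eq_one.1 k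
    have := l2e_order_cases q8 (f ⟨x, trivial⟩)
    rw [MulEquiv.orderOf_eq, ← orderOf_coe, hx] at this
    norm_num at this
  refine ⟨q8, ⟨(MulEquiv.ofBijective (MulAut.conjNormal : G →* MulAut L)
    ((Nat.bijective_iff_injective_and_card _).2 ⟨?_, ?_⟩)).trans (MulAut.congr f)⟩⟩
  · exact (injective_iff_map_eq_one _).2 fun g k => c.le (mem_centralizer_iff.2 fun y hy => by
      have := congrArg (fun f : MulAut L => (f ⟨y, hy⟩ : G)) k
      simp only [MulAut.conjNormal_apply, MulAut.one_apply] at this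
      exact (mul_inv_eq_iff_eq_mul.1 this).symm)
  · rw [Nat.card_congr (MulAut.congr f).toEquiv, Cfsg.Agent.S0813.result 2 3 (by norm_num) q8 2 le_rfl
      (by norm_num), card_PGL_two, Nat.card_eq_fintype_card (α := F), ← e, ← hc,
      ((Nat.dvd_prime Nat.prime_three).1 i).resolve_left i1, card_psl_even (by norm_num) q8, q8]
    norm_num

/-- `C(J) = ⟨J⟩ × T` has odd index and `G` has no normal subgroup of index 2. -/
structure DC (J : G) (T : Subgroup G) : Prop where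
  iv : GW.Iv J
  dp : DProd (zpowers J) T (𝐂₁ J)
  odd : ¬ 2 ∣ (𝐂₁ J).index
  no : ∀ K : Subgroup G, K.Normal → K.index ≠ 2

theorem DC.of (h2 : ∀ N : Subgroup G, N.Normal → N.index ≠ 2) (hJ : IsTwoCentralInvolution J)
    (hd : IsInternalDirectProduct (zpowers J) T (𝐂₁ J)) : DC J T := by
  obtain ⟨o, P, -, c⟩ := hJ
  obtain ⟨-, l, k, i, e⟩ := hd
  haveI : Fact (Nat.Prime 2) := ⟨Nat.prime_two⟩
  exact ⟨o, e ▸ DProd.mk' (fun b hb => mem_centralizer_iff.2 fun a ha => k a ha b hb) i,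
    fun d => P.not_dvd_index (d.trans (index_dvd_of_le fun x hx => mem_cent1.2 (c x hx))), h2⟩

namespace DC
variable (h : DC J T)
include h

theorem le : T ≤ 𝐂₁ J := h.dp.right_le

theorem idx : T.relIndex (𝐂₁ J) = 2 := by rw [h.dp.sdprod.relIndex_right, h.iv.card]

theorem nm : J ∉ T := fun m => h.iv.ne_one (h.dp.inf.le ⟨mem_zpowers J, m⟩)

theorem conj (i : GW.Iv s) : ∃ g, g * s * g⁻¹ ∈ T := by
  obtain ⟨g, hg⟩ := JR.conj_mem_of_odd h.odd i
  by_contra! k
  obtain ⟨K, k1, k2, -⟩ := CF.Transfer.thompson_transfer h.odd h.idx hg (i.conj g)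
    fun c m => k (c * g) (by simpa [mul_assoc] using m)
  exact h.no K k1 k2

theorem mul (hx : x ∈ 𝐂₁ J) (hs : s ∈ 𝐂₁ J) : x * s ∈ T ↔ (x ∈ T ↔ s ∈ T) :=
  mul_mem_iff_of_index_two (H := T.subgroupOf (𝐂₁ J)) h.idx (a := ⟨x, hx⟩) (b := ⟨s, hs⟩)

theorem comm_le : ⁅𝐂₁ J, 𝐂₁ J⁆ ≤ T := commutator_le.2 fun a ha b hb => by
  rw [commutatorElement_def, h.mul (mul_mem (mul_mem ha hb) (inv_mem ha)) (inv_mem hb),
    h.mul (mul_mem ha hb) (inv_mem ha), h.mul ha hb, inv_mem_iff, inv_mem_iff]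
  tauto

/-- Some involution of `T` lies outside the commutator subgroup of its centraliser. -/
theorem exists_not_mem : ∃ t : T, GW.Iv t ∧ IsConj J t ∧ t ∉ ⁅𝐂₁ t, 𝐂₁ t⁆ := by
  obtain ⟨g, hg⟩ := h.conj h.iv
  refine ⟨⟨_, hg⟩, (orderOf_coe _).symm.trans (h.iv.conj g), isConj_iff.2 ⟨g, rfl⟩,
    fun m => h.nm (h.comm_le ?_)⟩
  have := mem_map_of_mem ((MulAut.conj g⁻¹).toMonoidHom.comp T.subtype) m
  rw [map_commutator] at this
  have l : (𝐂₁ (⟨_, hg⟩ : T)).map ((MulAut.conj g⁻¹).toMonoidHom.comp T.subtype) ≤ 𝐂₁ J := by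
    rintro _ ⟨y, hy, rfl⟩
    have : y * (g * J * g⁻¹) = g * J * g⁻¹ * y := congrArg Subtype.val (mem_cent1.1 hy)
    refine mem_cent1.2 ?_
    calc _ = g⁻¹ * (y * (g * J * g⁻¹)) * g := by simp [mul_assoc]
      _ = _ := by rw [this]; simp [mul_assoc]
  simpa [mul_assoc] using commutator_mono l l this

theorem not_alt {α : Type*} [Fintype α] [DecidableEq α] (h6 : 6 ≤ Fintype.card α)
    (e : T ≃* alternatingGroup α) : False := by
  obtain ⟨t, i, -, m⟩ := h.exists_not_mem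
  have := mem_map_of_mem e.symm.toMonoidHom (alt_mem_comm h6 (t := e t) (by rw [← map_mul, i.sq, map_one]))
  rw [map_commutator] at this
  have l : (𝐂₁ (e t)).map e.symm.toMonoidHom ≤ 𝐂₁ t := by
    rintro _ ⟨y, hy, rfl⟩
    exact mem_cent1.2 (e.injective (by simpa using mem_cent1.1 hy))
  exact m (by simpa using commutator_mono l l this)

theorem four (ns : ¬ Sol (⊤ : Subgroup G)) (e : T ≃* alternatingGroup (Fin 4)) :
    ∃ (F : Type) (_ : Field F) (_ : Fintype F), Fintype.card F = 8 ∧ Nonempty (G ≃* MulAut PSL(2, F)) := by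
  have a6 : ∀ a : T, a ^ 6 = 1 := fun a => e.injective (by
    rw [map_pow, map_one]; generalize e a = b; revert b; decide +kernel)
  have cj : ∀ a b : T, GW.Iv a → GW.Iv b → IsConj (a : G) b := fun a b i j => by
    have : ∀ a b : alternatingGroup (Fin 4), a ≠ 1 → a * a = 1 → b ≠ 1 → b * b = 1 →
        ∃ c, c * a * c⁻¹ = b := by decide +kernel
    exact T.subtype.map_isConj (by simpa using e.symm.toMonoidHom.map_isConj (isConj_iff.2 (this (e a) (e b)
      (by simpa using i.ne_one) (by rw [← map_mul, i.sq, map_one]) (by simpa using j.ne_one)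
      (by rw [← map_mul, j.sq, map_one]))))
  obtain ⟨t, i, c, -⟩ := h.exists_not_mem
  have all : ∀ s : G, GW.Iv s → ∃ g, g * s * g⁻¹ = J := fun s j => by
    obtain ⟨g, hg⟩ := h.conj j
    exact isConj_iff.1 ((isConj_conj g s).trans ((cj ⟨_, hg⟩ t ((orderOf_coe _).symm.trans (j.conj g))
      i).trans c.symm))
  have tr : ∀ s x g : G, g * s * g⁻¹ = J → x * s = s * x → g * x * g⁻¹ ∈ 𝐂₁ J := fun s x g e k =>
    mem_cent1.2 (by rw [← e, conj_mul, conj_mul, k])
  have J6 : J ^ 6 = 1 := orderOf_dvd_iff_pow_eq_one.1 (h.iv.symm ▸ by decide)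
  have c6 : ∀ x : G, 2 ∣ orderOf x → orderOf x ∣ 6 := fun x d => by
    obtain ⟨g, hg⟩ := all _ (orderOf_pow_orderOf_div (orderOf_pos x).ne' d)
    obtain ⟨a, ha, b, hb, e⟩ := h.dp.sdprod.exists_mul (tr _ x g hg (Commute.self_pow x _))
    rw [← BG.orderOf_conj' g, ← e, orderOf_dvd_iff_pow_eq_one, Commute.mul_pow (h.dp.cent hb a ha),
      show b ^ 6 = 1 from congrArg Subtype.val (a6 ⟨b, hb⟩), mul_one]
    rcases h.iv.mem_zpowers.1 ha with rfl | rfl
    exacts [one_pow _, J6]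
  have O : oddCore G = ⊥ := le_bot_iff.1 (four_gen (isKleinFour_closure h.iv ((orderOf_coe t).trans i)
    (mem_cent1.1 (h.le t.2)).symm fun k => h.nm (k ▸ t.2)) le_normalizer_of_normal oddCore_odd
    fun s _ j x hx => by
      obtain ⟨g, hg⟩ := all s (iv_iff.1 j)
      have m := tr s x g hg (mem_cent1.1 hx.2)
      have m' : g * x * g⁻¹ ∈ oddCore G := Normal.conj_mem inferInstance x hx.1 g
      have o := Suz.odd_orderOf_of_mem oddCore_odd m'
      have mT : g * x * g⁻¹ ∈ T := BG2.mem_of_sq_mem_of_odd o ((h.mul m m).2 Iff.rfl)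
      suffices e ⟨_, mT⟩ = 1 by simpa using this
      have : ∀ b : alternatingGroup (Fin 4), b * b = 1 ∨ ∃ v, b * (v * b⁻¹ * v⁻¹) ≠ 1 ∧
          b * (v * b⁻¹ * v⁻¹) * (b * (v * b⁻¹ * v⁻¹)) = 1 := by decide +kernel
      rcases this (e ⟨_, mT⟩) with k | ⟨v, k1, k2⟩
      · rw [← map_mul, EmbeddingLike.map_eq_one_iff] at k
        rw [show (⟨_, mT⟩ : T) = 1 from Subtype.ext (eq_one_of_sq o (congrArg Subtype.val k)), map_one]
      · obtain ⟨v, rfl⟩ := e.surjective v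
        simp only [← map_inv, ← map_mul, EmbeddingLike.map_eq_one_iff, ne_eq] at k1 k2
        exact (k1 (Subtype.ext (eq_one_of_sq (Suz.odd_orderOf_of_mem oddCore_odd (mul_mem m'
          (Normal.conj_mem inferInstance _ (inv_mem m') v))) (congrArg Subtype.val k2)))).elim)
  have n4 : ∀ g : G, orderOf g ≠ 4 := fun g k => absurd (c6 g (k ▸ by decide)) (k ▸ by decide)
  obtain ⟨F, _, _, q, L, n, ⟨f⟩, cL⟩ := ab_case (r := 3) n4 (fun p hp p2 g k => by
    have := c6 g (k ▸ dvd_mul_right _ _)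
    rw [k, show 6 = 2 * 3 from rfl] at this
    exact (Nat.prime_dvd_prime_iff_eq hp Nat.prime_three).1 (Nat.dvd_of_mul_dvd_mul_left two_pos this)) ns
  obtain ⟨y, hy⟩ : ∃ y : alternatingGroup (Fin 4), orderOf y = 3 :=
    exists_prime_orderOf_dvd_card' (hp := ⟨Nat.prime_three⟩) 3 (by rw [Nat.card_eq_fintype_card]; decide +kernel)
  have φ := quotBot O
  obtain ⟨q8, ⟨ψ⟩⟩ := equiv_aut_eight f cL q (fun g k => n4 (φ g) (by rw [φ.orderOf_eq, k])) h.odd
    (x := φ.symm (J * e.symm y)) (by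
      rw [Nat.card_congr φ.toEquiv, ← (𝐂₁ J).index_mul_card, ← h.dp.card, h.iv.card, Nat.card_congr e.toEquiv,
        Nat.card_eq_fintype_card]
      rfl) (by
      rw [MulEquiv.orderOf_eq, Commute.orderOf_mul_eq_mul_orderOf_of_coprime (mem_cent1.1 (h.le (e.symm y).2)).symm]
      all_goals rw [h.iv, orderOf_coe, MulEquiv.orderOf_eq, hy]
      decide)
  exact ⟨F, _, _, q8, ⟨φ.symm.trans ψ⟩⟩

theorem alt {m : ℕ} (ns : ¬ Sol (⊤ : Subgroup G)) (hJ : IsTwoCentralInvolution J)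
    (e : T ≃* alternatingGroup (Fin m)) :
    (m = 4 ∧ ∃ (F : Type) (_ : Field F) (_ : Fintype F), Fintype.card F = 8 ∧
      Nonempty (G ≃* MulAut PSL(2, F))) ∨ (m = 5 ∧ Spor.IsoJ1 G) := by
  obtain k | rfl | rfl | k : m ≤ 3 ∨ m = 4 ∨ m = 5 ∨ 6 ≤ m := by omega
  · obtain ⟨t, i, -⟩ := h.exists_not_mem
    have : ∀ a : alternatingGroup (Fin m), a * a = 1 → a = 1 := by interval_cases m <;> decide +kernel
    exact (i.ne_one (by simpa using this (e t) (by rw [← map_mul, i.sq, map_one]))).elim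
  · exact Or.inl ⟨rfl, h.four ns e⟩
  · exact Or.inr ⟨rfl, (Ab2.dprod_equiv h.dp h.iv e).elim fun f => JR.isoJ1 hJ f h.no⟩
  · exact (h.not_alt (by simpa) e).elim

end DC

end CF.CIT
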